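import Groth.Agent.AGF.K492.RedDict
import Groth.Agent.AGF.K493.Glue
import Groth.Agent.Agf.H623.BorelSch
import Groth.Agent.Agf.H623.ImgCl
import Groth.Agent.Sga3.H794.RedIdNormal
import Groth.Agent.Sga3B.RedIso

/-!
# Products of reductive groups are reductive

* `isReductiveOver_tensor`: over an algebraically closed field;
* `bcTensor`: base change commutes with products of groups;
* `isReductive_tensor`: over any base.
-/

set_option autoImplicit false

universe u

open CategoryTheory MonoidalCategory CartesianMonoidalCategory MonObj GrpObj AlgebraicGeometry Limits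
open Groth.Agent.Books.AffBridge Groth.Agent.Books.AffBridge2

namespace K123.RedProd

open Groth.Agent.Sga3B Groth.Agent.Sga3B.RG Groth.Agent.Sga3B.RG.BrPts
open Groth.Agent.Agf.H614.AlgDict Groth.Agent.Sga3B.Parab.BorelPts172
open Groth.Agent.Books.AlgPtsGrp Groth.Agent.Books.AlgPtsIrred Groth.Agent.Books.AlgPtsSmooth

section Field

variable {K : Type u} [Field K] {G H : Over (Spec (CommRingCat.of K))} [GrpObj G] [GrpObj H]

theorem isAffine_tensor {S : Scheme.{u}} [IsAffine S] (X Y : Over S) [IsAffine X.left] [IsAffine Y.left] :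
    IsAffine (X ⊗ Y).left := by
  change IsAffine (pullback X.hom Y.hom)
  infer_instance

theorem smooth_tensor {S : Scheme.{u}} (X Y : Over S) [Smooth X.hom] [Smooth Y.hom] : Smooth (X ⊗ Y).hom := by
  rw [Over.tensorObj_hom]
  infer_instance

variable [IsAlgClosed K]

theorem isReductiveOver_tensor (hG : Red.IsReductiveOver K G) (hH : Red.IsReductiveOver K H) :
    Red.IsReductiveOver K (G ⊗ H) := by
  have h1 := hG.1
  have h2 := hG.2.1
  have h3 := hG.2.2.1
  have h4 := hH.1
  have h5 := hH.2.1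
  have h6 := hH.2.2.1
  have h7 := isAffine_tensor G H
  have h8 := smooth_tensor G H
  have h9 := Groth.Agent.Sga3.H794.RedIdNormal.irreducibleSpace_tensor G H
  have h10 : ConnectedSpace (G ⊗ H).left := inferInstance
  obtain ⟨A, _, _, eA, heA⟩ := exists_hopf K G
  obtain ⟨B, _, _, eB, heB⟩ := exists_hopf K H
  obtain ⟨C, _, _, eC, heC⟩ := exists_hopf K (G ⊗ H)
  have hA : Algebra.FiniteType K A := by
    have : Smooth (SpecOver K A).hom := smooth_of_iso eA
    exact (locallyOfFiniteType_specOver_iff K A).1 inferInstance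
  have hB : Algebra.FiniteType K B := by
    have : Smooth (SpecOver K B).hom := smooth_of_iso eB
    exact (locallyOfFiniteType_specOver_iff K B).1 inferInstance
  have hC : Algebra.FiniteType K C := by
    have : Smooth (SpecOver K C).hom := smooth_of_iso eC
    exact (locallyOfFiniteType_specOver_iff K C).1 inferInstance
  obtain ⟨φ, hφ⟩ := Groth.Agent.Agf.H623.BorelSch.exists_bialgHom eC eA (fst G H)
  obtain ⟨ψ, hψ⟩ := Groth.Agent.Agf.H623.BorelSch.exists_bialgHom eC eB (snd G H)
  obtain ⟨hdA, hrA⟩ := (K492.RedDict.isReductiveOver_iff' eA).1 hG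
  obtain ⟨hdB, hrB⟩ := (K492.RedDict.isReductiveOver_iff' eB).1 hH
  refine (K492.RedDict.isReductiveOver_iff' eC).2
    ⟨Groth.Agent.Agf.H623.BorelSch.isDomain_of_iso eC, fun N hN hcl hconn hu => ?_⟩
  have hs : Function.Surjective (Pt.map (K := K) φ) := by
    intro y
    refine ⟨pt eC (lift ((pt eA).symm y) 1), ?_⟩
    rw [← K493.Glue.pt_comp eC eA (fst G H) φ hφ, lift_fst, MulEquiv.apply_symm_apply]
  have hs' : Function.Surjective (Pt.map (K := K) ψ) := by
    intro y
    refine ⟨pt eC (lift 1 ((pt eB).symm y)), ?_⟩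
    rw [← K493.Glue.pt_comp eC eB (snd G H) ψ hψ, lift_snd, MulEquiv.apply_symm_apply]
  have hN1 : N.map (Pt.map φ) = ⊥ := by
    refine hrA _ (hN.map _ hs) (Groth.Agent.Agf.H623.ImgCl.isCl_map_of_isConn φ hcl hconn)
      (Groth.Agent.Agf.H623.ImgCl.isConn_map φ hconn) ?_
    rintro _ ⟨x, hx, rfl⟩
    exact IsUnip.map φ (hu x hx)
  have hN2 : N.map (Pt.map ψ) = ⊥ := by
    refine hrB _ (hN.map _ hs') (Groth.Agent.Agf.H623.ImgCl.isCl_map_of_isConn ψ hcl hconn)
      (Groth.Agent.Agf.H623.ImgCl.isConn_map ψ hconn) ?_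
    rintro _ ⟨x, hx, rfl⟩
    exact IsUnip.map ψ (hu x hx)
  rw [eq_bot_iff]
  intro x hx
  have h11 : Pt.map φ x = 1 := by
    have : Pt.map φ x ∈ N.map (Pt.map φ) := ⟨x, hx, rfl⟩
    rwa [hN1, Subgroup.mem_bot] at this
  have h12 : Pt.map ψ x = 1 := by
    have : Pt.map ψ x ∈ N.map (Pt.map ψ) := ⟨x, hx, rfl⟩
    rwa [hN2, Subgroup.mem_bot] at this
  rw [Subgroup.mem_bot]
  apply (pt eC).symm.injective
  rw [map_one]
  apply CartesianMonoidalCategory.hom_ext
  · rw [K493.Glue.symm_comp eC eA (fst G H) φ hφ, h11, map_one, MonObj.one_comp]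
  · rw [K493.Glue.symm_comp eC eB (snd G H) ψ hψ, h12, map_one, MonObj.one_comp]

end Field

section bc

variable {S S' : Scheme.{u}} (f : S' ⟶ S) (G H : Over S)

/-- Base change of a product. -/
noncomputable def bcTensor : Red.bc f (G ⊗ H) ≅ Red.bc f G ⊗ Red.bc f H :=
  prodComparisonIso (Over.pullback f) G H

@[reassoc]
theorem bcTensor_hom_fst : (bcTensor f G H).hom ≫ fst _ _ = (Over.pullback f).map (fst G H) :=
  prodComparison_fst _ _ _

@[reassoc]
theorem bcTensor_hom_snd : (bcTensor f G H).hom ≫ snd _ _ = (Over.pullback f).map (snd G H) :=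
  prodComparison_snd _ _ _

instance [GrpObj G] [GrpObj H] : IsMonHom (bcTensor f G H).hom := by
  have h : (bcTensor f G H).hom = lift ((Over.pullback f).map (fst G H)) ((Over.pullback f).map (snd G H)) := by
    apply CartesianMonoidalCategory.hom_ext
    · rw [bcTensor_hom_fst, lift_fst]
    · rw [bcTensor_hom_snd, lift_snd]
  rw [h]
  infer_instance

instance [GrpObj G] [GrpObj H] : IsMonHom (bcTensor f G H).symm.hom :=
  inferInstanceAs (IsMonHom (bcTensor f G H).inv)

end bc

section S

variable {S : Scheme.{u}} {G H : Over S} [GrpObj G] [GrpObj H]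

theorem isAffineHom_tensor (X Y : Over S) (hX : IsAffineHom X.hom) (hY : IsAffineHom Y.hom) :
    IsAffineHom (X ⊗ Y).hom := by
  rw [Over.tensorObj_hom]
  exact MorphismProperty.comp_mem @IsAffineHom _ _ (MorphismProperty.pullback_fst _ _ hY) hX

/-- The product of two reductive groups is reductive. -/
theorem isReductive_tensor (hG : Red.IsReductive G) (hH : Red.IsReductive H) : Red.IsReductive (G ⊗ H) := by
  have h2 := hG.2.1
  have h4 := hH.2.1
  refine ⟨isAffineHom_tensor G H hG.1 hH.1, smooth_tensor G H, fun s => ?_⟩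
  exact BrRed2.isReductiveOver_of_iso (bcTensor (Red.geomPt s) G H).symm
    (isReductiveOver_tensor (hG.2.2 s) (hH.2.2 s))

end S

end K123.RedProd
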