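import Groth.Agent.Red.K216.DecDef
import Groth.Agent.Red.K123.RedProd
import Groth.Agent.RedSub.K197.Isog
import Groth.Agent.Sga3B.TorClosed636
import Groth.Agent.Sga3B.SplitBc264
import Groth.Agent.Sga3B.Trans894
import Groth.Agent.AbVar.K518.ProdIsog

/-!
# The product of two split reductive groups is split

* `isCentralizerOf_tensor`, `isMaximalTorus_tensor`: maximal tori of a product;
* `nodeP`: the product of two split reductive groups is split, with the direct sum of the root data.
-/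

set_option autoImplicit false

universe u

open CategoryTheory MonoidalCategory CartesianMonoidalCategory MonObj GrpObj AlgebraicGeometry

namespace K123.SplitProd

open K216.DecDef K197.Isog Groth.Agent.Sga3B Groth.Agent.Sga3B.RedIso K123.RedProd

variable {S : Scheme.{u}}

section Incl

variable (G H : Over S) [GrpObj G] [GrpObj H]

/-- The first factor of a product of groups. -/
noncomputable def inG : G ⟶ G ⊗ H := lift (𝟙 G) 1

/-- The second factor of a product of groups. -/
noncomputable def inH : H ⟶ G ⊗ H := lift 1 (𝟙 H)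

@[reassoc (attr := simp)]
theorem inG_fst : inG G H ≫ fst G H = 𝟙 G := lift_fst _ _

@[reassoc (attr := simp)]
theorem inG_snd : inG G H ≫ snd G H = 1 := lift_snd _ _

@[reassoc (attr := simp)]
theorem inH_fst : inH G H ≫ fst G H = 1 := lift_fst _ _

@[reassoc (attr := simp)]
theorem inH_snd : inH G H ≫ snd G H = 𝟙 H := lift_snd _ _

theorem isMonHom_one : IsMonHom (1 : G ⟶ H) where
  one_hom := by rw [MonObj.comp_one, MonObj.one_eq_one]
  mul_hom := by
    rw [MonObj.comp_one]
    have h : ((1 : G ⟶ H) ⊗ₘ (1 : G ⟶ H)) ≫ μ = ((fst G G ≫ (1 : G ⟶ H)) * (snd G G ≫ (1 : G ⟶ H))) := by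
      rw [Hom.mul_def, ← lift_fst_comp_snd_comp]
    rw [h, MonObj.comp_one, MonObj.comp_one, _root_.mul_one]

instance : IsMonHom (inG G H) := by
  have := isMonHom_one G H
  unfold inG
  infer_instance

instance : IsMonHom (inH G H) := by
  have := isMonHom_one H G
  unfold inH
  infer_instance

theorem isClosedImmersion_inG [hH : IsSeparated H.hom] : IsClosedImmersion (inG G H).left := by
  have h1 : (inG G H).left ≫ (fst G H).left = 𝟙 G.left := by
    rw [← Over.comp_left, inG_fst]
    rfl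
  have h2 : IsSeparated (fst G H).left :=
    inferInstanceAs (IsSeparated (Limits.pullback.fst G.hom H.hom))
  have h3 : IsClosedImmersion ((inG G H).left ≫ (fst G H).left) := by
    rw [h1]
    infer_instance
  exact IsClosedImmersion.of_comp (inG G H).left (fst G H).left

theorem isClosedImmersion_inH [hG : IsSeparated G.hom] : IsClosedImmersion (inH G H).left := by
  have h1 : (inH G H).left ≫ (snd G H).left = 𝟙 H.left := by
    rw [← Over.comp_left, inH_snd]
    rfl
  have h2 : IsSeparated (snd G H).left :=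
    inferInstanceAs (IsSeparated (Limits.pullback.snd G.hom H.hom))
  have h3 : IsClosedImmersion ((inH G H).left ≫ (snd G H).left) := by
    rw [h1]
    infer_instance
  exact IsClosedImmersion.of_comp (inH G H).left (snd G H).left

end Incl

section Cent

variable {G H T T' : Over S} [GrpObj G] [GrpObj H] [GrpObj T] [GrpObj T']

/-- Conjugation and commutation in a product are computed componentwise. -/
theorem ext_prod {X : Over S} {a b : X ⟶ G ⊗ H} (h1 : a ≫ fst G H = b ≫ fst G H) (h2 : a ≫ snd G H = b ≫ snd G H) :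
    a = b := CartesianMonoidalCategory.hom_ext _ _ h1 h2

omit [GrpObj G] [GrpObj H] [GrpObj T] [GrpObj T'] in
theorem mono_tensor {i : T ⟶ G} {j : T' ⟶ H} [Mono i] [Mono j] : Mono (i ⊗ₘ j) := by
  constructor
  intro X a b h
  have h1 := congr($h ≫ fst G H)
  have h2 := congr($h ≫ snd G H)
  simp only [Category.assoc, tensorHom_fst, tensorHom_snd] at h1 h2
  rw [← Category.assoc, ← Category.assoc, cancel_mono] at h1 h2
  exact CartesianMonoidalCategory.hom_ext _ _ h1 h2

/-- Self-centralizing subgroups of a product. -/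
theorem isCentralizerOf_tensor {i : T ⟶ G} {j : T' ⟶ H} (hi : Red.IsCentralizerOf i i)
    (hj : Red.IsCentralizerOf j j) : Red.IsCentralizerOf (i ⊗ₘ j) (i ⊗ₘ j) := by
  have h1 := hi.1
  have h2 := hi.2.1
  have h3 := hj.1
  have h4 := hj.2.1
  refine ⟨inferInstance, mono_tensor, fun X g => ⟨?_, fun h => ?_⟩⟩
  · rintro ⟨z, rfl⟩ X' x t
    refine ext_prod ?_ ?_
    · have h5 := (hi.2.2 X (z ≫ fst _ _ ≫ i)).1 ⟨z ≫ fst _ _, Category.assoc _ _ _⟩ X' x (t ≫ fst _ _)
      simpa [MonObj.mul_comp] using h5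
    · have h5 := (hj.2.2 X (z ≫ snd _ _ ≫ j)).1 ⟨z ≫ snd _ _, Category.assoc _ _ _⟩ X' x (t ≫ snd _ _)
      simpa [MonObj.mul_comp] using h5
  · obtain ⟨z, hz⟩ := (hi.2.2 X (g ≫ fst _ _)).2 (by
      intro X' x t
      have h5 := congr($(h X' x (lift t 1)) ≫ fst G H)
      simpa [MonObj.mul_comp] using h5)
    obtain ⟨w, hw⟩ := (hj.2.2 X (g ≫ snd _ _)).2 (by
      intro X' x t
      have h5 := congr($(h X' x (lift 1 t)) ≫ snd G H)
      simpa [MonObj.mul_comp] using h5)
    refine ⟨lift z w, ext_prod ?_ ?_⟩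
    · simpa using hz
    · simpa using hw

/-- Maximal tori of a product of reductive groups. -/
theorem isMaximalTorus_tensor (hG : Red.IsReductive G) (hH : Red.IsReductive H) {i : T ⟶ G} {j : T' ⟶ H}
    (hi : Red.IsMaximalTorus i) (hj : Red.IsMaximalTorus j) (hT : Red.IsTorus (T ⊗ T')) :
    Red.IsMaximalTorus (i ⊗ₘ j) :=
  SplitBc264.isMaximalTorus_of_isCentralizerOf hT
    (isCentralizerOf_tensor (TorClosed636.isCentralizerOf_self hG hi) (TorClosed636.isCentralizerOf_self hH hj))

end Cent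

section Split

variable {M N : Type} [AddCommGroup M] [AddCommGroup N]

theorem dsProd_hom_fst : (dsProd S M N).hom ≫ fst _ _ = Red.DSmap S (AddMonoidHom.inl M N) := lift_fst _ _

theorem dsProd_hom_snd : (dsProd S M N).hom ≫ snd _ _ = Red.DSmap S (AddMonoidHom.inr M N) := lift_snd _ _

theorem dsProd_inv_inl : (dsProd S M N).inv ≫ Red.DSmap S (AddMonoidHom.inl M N) = fst _ _ := by
  rw [← dsProd_hom_fst, Iso.inv_hom_id_assoc]

theorem dsProd_inv_inr : (dsProd S M N).inv ≫ Red.DSmap S (AddMonoidHom.inr M N) = snd _ _ := by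
  rw [← dsProd_hom_snd, Iso.inv_hom_id_assoc]

instance : IsMonHom (dsProd S M N).hom := by
  change IsMonHom (lift (Red.DSmap S (AddMonoidHom.inl M N)) (Red.DSmap S (AddMonoidHom.inr M N)))
  have h1 : IsMonHom (Red.DSmap S (AddMonoidHom.inl M N)) := Trans894.isMonHom_DSmap _
  have h2 : IsMonHom (Red.DSmap S (AddMonoidHom.inr M N)) := Trans894.isMonHom_DSmap _
  infer_instance

theorem chi_inl (m : M) : Red.chi S ((m, 0) : M × N) = Red.DSmap S (AddMonoidHom.inl M N) ≫ Red.chi S m := by
  unfold Red.chi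
  rw [BorSpan613.DSmap_comp_DSmap]
  congr 1
  ext
  · simp
  · simp

theorem chi_inr (n : N) : Red.chi S ((0, n) : M × N) = Red.DSmap S (AddMonoidHom.inr M N) ≫ Red.chi S n := by
  unfold Red.chi
  rw [BorSpan613.DSmap_comp_DSmap]
  congr 1
  ext
  · simp
  · simp

variable {T T' : Over S} [GrpObj T] [GrpObj T'] (σ : Grp.mk T ≅ Grp.mk (Red.DS S M))
  (τ : Grp.mk T' ≅ Grp.mk (Red.DS S N))

/-- The isomorphism of the product of two diagonalisable groups with a diagonalisable group. -/
noncomputable def splitIso : T ⊗ T' ≅ Red.DS S (M × N) :=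
  (und σ ⊗ᵢ und τ) ≪≫ (dsProd S M N).symm

instance : IsMonHom (splitIso σ τ).hom := by
  have h1 : IsMonHom (dsProd S M N).symm.hom := inferInstanceAs (IsMonHom (dsProd S M N).inv)
  have h2 : IsMonHom (und σ).hom := σ.hom.hom.isMonHom_hom
  have h3 : IsMonHom (und τ).hom := τ.hom.hom.isMonHom_hom
  have h4 : IsMonHom ((und σ ⊗ᵢ und τ).hom) := inferInstanceAs (IsMonHom ((und σ).hom ⊗ₘ (und τ).hom))
  exact inferInstanceAs (IsMonHom ((und σ ⊗ᵢ und τ).hom ≫ (dsProd S M N).symm.hom))

theorem splitIso_hom_inl : (splitIso σ τ).hom ≫ Red.DSmap S (AddMonoidHom.inl M N) = fst _ _ ≫ (und σ).hom := by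
  change ((und σ ⊗ᵢ und τ).hom ≫ (dsProd S M N).inv) ≫ _ = _
  rw [Category.assoc, dsProd_inv_inl]
  exact tensorHom_fst _ _

theorem splitIso_hom_inr : (splitIso σ τ).hom ≫ Red.DSmap S (AddMonoidHom.inr M N) = snd _ _ ≫ (und τ).hom := by
  change ((und σ ⊗ᵢ und τ).hom ≫ (dsProd S M N).inv) ≫ _ = _
  rw [Category.assoc, dsProd_inv_inr]
  exact tensorHom_snd _ _

theorem splitIso_inv_fst : (splitIso σ τ).inv ≫ fst _ _ = Red.DSmap S (AddMonoidHom.inl M N) ≫ (und σ).inv := by
  change ((dsProd S M N).hom ≫ (und σ ⊗ᵢ und τ).inv) ≫ _ = _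
  rw [← dsProd_hom_fst, Category.assoc, Category.assoc]
  congr 1
  exact tensorHom_fst _ _

theorem splitIso_inv_snd : (splitIso σ τ).inv ≫ snd _ _ = Red.DSmap S (AddMonoidHom.inr M N) ≫ (und τ).inv := by
  change ((dsProd S M N).hom ≫ (und σ ⊗ᵢ und τ).inv) ≫ _ = _
  rw [← dsProd_hom_snd, Category.assoc, Category.assoc]
  congr 1
  exact tensorHom_snd _ _

/-- The splitting of the product. -/
noncomputable def splitGrp : Grp.mk (T ⊗ T') ≅ Grp.mk (Red.DS S (M × N)) := Grp.mkIso' (splitIso σ τ)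

theorem splitGrp_hom : (splitGrp σ τ).hom.hom.hom = (splitIso σ τ).hom := rfl

theorem splitGrp_inv : (splitGrp σ τ).inv.hom.hom = (splitIso σ τ).inv := rfl

include σ τ in
theorem isTorus_tensor [Module.Free ℤ M] [Module.Finite ℤ M] [Module.Free ℤ N] [Module.Finite ℤ N] :
    Red.IsTorus (T ⊗ T') :=
  TorusBc.isTorus_of_iso (splitGrp σ τ).symm (Trans894.isTorus_DS S (M × N))

end Split

section Refl

variable {σ κ M N : Type} [AddCommGroup M] [AddCommGroup N] [Module.Finite ℤ M] [Module.Free ℤ M] [Module.Finite ℤ N]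
  [Module.Free ℤ N] (P : RootPairing σ ℤ M (Module.Dual ℤ M)) (Q : RootPairing κ ℤ N (Module.Dual ℤ N))
  (hP : P.toLinearMap = Module.Dual.eval ℤ M) (hQ : Q.toLinearMap = Module.Dual.eval ℤ N)

theorem reflection_inl (a : σ) : ((prodPairing P Q hP hQ).reflection (Sum.inl a)).toLinearMap.toAddMonoidHom =
    AddMonoidHom.prodMap (P.reflection a).toLinearMap.toAddMonoidHom (AddMonoidHom.id N) := by
  ext x
  · simp [RootPairing.reflection_apply, prodPairing, hP]
  · simp [RootPairing.reflection_apply, prodPairing]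

theorem reflection_inr (b : κ) : ((prodPairing P Q hP hQ).reflection (Sum.inr b)).toLinearMap.toAddMonoidHom =
    AddMonoidHom.prodMap (AddMonoidHom.id M) (Q.reflection b).toLinearMap.toAddMonoidHom := by
  ext x
  · simp [RootPairing.reflection_apply, prodPairing]
  · simp [RootPairing.reflection_apply, prodPairing, hQ]

end Refl

section Main

variable {G H : Over S} [GrpObj G] [GrpObj H]

/-- Root homomorphisms of the first factor. -/
theorem isRootHom_inG {T T' : Over S} [GrpObj T] [GrpObj T'] {M N : Type} [AddCommGroup M] [AddCommGroup N]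
    (σ : Grp.mk T ≅ Grp.mk (Red.DS S M)) (τ : Grp.mk T' ≅ Grp.mk (Red.DS S N)) {i : T ⟶ G} (j : T' ⟶ H)
    [IsSeparated H.hom] {m : M} {u : Red.Ga S ⟶ G} (h : Red.IsRootHom i (σ.hom.hom.hom ≫ Red.chi S m) u) :
    Red.IsRootHom (i ⊗ₘ j) ((splitGrp σ τ).hom.hom.hom ≫ Red.chi S ((m, 0) : M × N)) (u ≫ inG G H) := by
  obtain ⟨h1, h2, h3⟩ := h
  have h4 := isClosedImmersion_inG G H
  refine ⟨inferInstance, ?_, fun X t x => ?_⟩
  · rw [Over.comp_left]
    infer_instance
  · obtain ⟨y, hy, hy'⟩ := h3 X (t ≫ fst _ _) x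
    refine ⟨y, ext_prod ?_ ?_, ?_⟩
    · simp only [MonObj.mul_comp, GrpObj.inv_comp, Category.assoc, inG_fst, Category.comp_id, tensorHom_fst]
      rw [hy]
      simp only [Category.assoc]
    · simp only [MonObj.mul_comp, GrpObj.inv_comp, Category.assoc, inG_snd, MonObj.comp_one, tensorHom_snd,
        _root_.mul_one, mul_inv_cancel]
    · rw [hy', splitGrp_hom, chi_inl, ← Category.assoc (splitIso σ τ).hom, splitIso_hom_inl]
      simp only [Category.assoc]
      rfl

/-- Root homomorphisms of the second factor. -/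
theorem isRootHom_inH {T T' : Over S} [GrpObj T] [GrpObj T'] {M N : Type} [AddCommGroup M] [AddCommGroup N]
    (σ : Grp.mk T ≅ Grp.mk (Red.DS S M)) (τ : Grp.mk T' ≅ Grp.mk (Red.DS S N)) (i : T ⟶ G) {j : T' ⟶ H}
    [IsSeparated G.hom] {n : N} {u : Red.Ga S ⟶ H} (h : Red.IsRootHom j (τ.hom.hom.hom ≫ Red.chi S n) u) :
    Red.IsRootHom (i ⊗ₘ j) ((splitGrp σ τ).hom.hom.hom ≫ Red.chi S ((0, n) : M × N)) (u ≫ inH G H) := by
  obtain ⟨h1, h2, h3⟩ := h
  have h4 := isClosedImmersion_inH G H
  refine ⟨inferInstance, ?_, fun X t x => ?_⟩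
  · rw [Over.comp_left]
    infer_instance
  · obtain ⟨y, hy, hy'⟩ := h3 X (t ≫ snd _ _) x
    refine ⟨y, ext_prod ?_ ?_, ?_⟩
    · simp only [MonObj.mul_comp, GrpObj.inv_comp, Category.assoc, inH_fst, MonObj.comp_one, tensorHom_fst,
        _root_.mul_one, mul_inv_cancel]
    · simp only [MonObj.mul_comp, GrpObj.inv_comp, Category.assoc, inH_snd, Category.comp_id, tensorHom_snd]
      rw [hy]
      simp only [Category.assoc]
    · rw [hy', splitGrp_hom, chi_inr, ← Category.assoc (splitIso σ τ).hom, splitIso_hom_inr]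
      simp only [Category.assoc]
      rfl

theorem inl_comp {M N : Type} [AddCommGroup M] [AddCommGroup N] (f : M →+ M) :
    (AddMonoidHom.prodMap f (AddMonoidHom.id N)).comp (AddMonoidHom.inl M N) = (AddMonoidHom.inl M N).comp f := by
  ext <;> simp

theorem inr_comp {M N : Type} [AddCommGroup M] [AddCommGroup N] (f : M →+ M) :
    (AddMonoidHom.prodMap f (AddMonoidHom.id N)).comp (AddMonoidHom.inr M N) = AddMonoidHom.inr M N := by
  ext <;> simp

theorem inl_comp' {M N : Type} [AddCommGroup M] [AddCommGroup N] (f : N →+ N) :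
    (AddMonoidHom.prodMap (AddMonoidHom.id M) f).comp (AddMonoidHom.inl M N) = AddMonoidHom.inl M N := by
  ext <;> simp

theorem inr_comp' {M N : Type} [AddCommGroup M] [AddCommGroup N] (f : N →+ N) :
    (AddMonoidHom.prodMap (AddMonoidHom.id M) f).comp (AddMonoidHom.inr M N) = (AddMonoidHom.inr M N).comp f := by
  ext <;> simp

/-- The reflections in the first factor. -/
theorem refl_inG {T T' : Over S} [GrpObj T] [GrpObj T'] {M N : Type} [AddCommGroup M] [AddCommGroup N]
    (σ : Grp.mk T ≅ Grp.mk (Red.DS S M)) (τ : Grp.mk T' ≅ Grp.mk (Red.DS S N)) {i : T ⟶ G} (j : T' ⟶ H)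
    (f : M →+ M) (n : 𝟙_ (Over S) ⟶ G) (hn : ∀ (X : Over S) (t : X ⟶ T),
      (toUnit X ≫ n) * (t ≫ i) * (toUnit X ≫ n)⁻¹ =
        t ≫ σ.hom.hom.hom ≫ Red.DSmap S f ≫ σ.inv.hom.hom ≫ i) (X : Over S) (t : X ⟶ T ⊗ T') :
    (toUnit X ≫ n ≫ inG G H) * (t ≫ (i ⊗ₘ j)) * (toUnit X ≫ n ≫ inG G H)⁻¹ =
      t ≫ (splitGrp σ τ).hom.hom.hom ≫ Red.DSmap S (AddMonoidHom.prodMap f (AddMonoidHom.id N)) ≫
        (splitGrp σ τ).inv.hom.hom ≫ (i ⊗ₘ j) := by
  rw [splitGrp_hom, splitGrp_inv]
  refine ext_prod ?_ ?_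
  · have h1 := hn X (t ≫ fst _ _)
    simp only [MonObj.mul_comp, GrpObj.inv_comp, Category.assoc, inG_fst, Category.comp_id, tensorHom_fst] at h1 ⊢
    rw [h1]
    congr 1
    rw [← Category.assoc (splitIso σ τ).inv, splitIso_inv_fst, Category.assoc,
      ← Category.assoc (Red.DSmap S _) (Red.DSmap S _), BorSpan613.DSmap_comp_DSmap, inl_comp,
      ← BorSpan613.DSmap_comp_DSmap, Category.assoc, ← Category.assoc (splitIso σ τ).hom, splitIso_hom_inl,
      Category.assoc]
    rfl
  · simp only [MonObj.mul_comp, GrpObj.inv_comp, Category.assoc, inG_snd, MonObj.comp_one, tensorHom_snd,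
      _root_.one_mul, inv_one, _root_.mul_one]
    congr 1
    rw [← Category.assoc (splitIso σ τ).inv, splitIso_inv_snd, Category.assoc,
      ← Category.assoc (Red.DSmap S _) (Red.DSmap S _), BorSpan613.DSmap_comp_DSmap, inr_comp,
      ← Category.assoc (splitIso σ τ).hom, splitIso_hom_inr, Category.assoc, Iso.hom_inv_id_assoc]

/-- The reflections in the second factor. -/
theorem refl_inH {T T' : Over S} [GrpObj T] [GrpObj T'] {M N : Type} [AddCommGroup M] [AddCommGroup N]
    (σ : Grp.mk T ≅ Grp.mk (Red.DS S M)) (τ : Grp.mk T' ≅ Grp.mk (Red.DS S N)) (i : T ⟶ G) {j : T' ⟶ H}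
    (f : N →+ N) (n : 𝟙_ (Over S) ⟶ H) (hn : ∀ (X : Over S) (t : X ⟶ T'),
      (toUnit X ≫ n) * (t ≫ j) * (toUnit X ≫ n)⁻¹ =
        t ≫ τ.hom.hom.hom ≫ Red.DSmap S f ≫ τ.inv.hom.hom ≫ j) (X : Over S) (t : X ⟶ T ⊗ T') :
    (toUnit X ≫ n ≫ inH G H) * (t ≫ (i ⊗ₘ j)) * (toUnit X ≫ n ≫ inH G H)⁻¹ =
      t ≫ (splitGrp σ τ).hom.hom.hom ≫ Red.DSmap S (AddMonoidHom.prodMap (AddMonoidHom.id M) f) ≫
        (splitGrp σ τ).inv.hom.hom ≫ (i ⊗ₘ j) := by
  rw [splitGrp_hom, splitGrp_inv]
  refine ext_prod ?_ ?_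
  · simp only [MonObj.mul_comp, GrpObj.inv_comp, Category.assoc, inH_fst, MonObj.comp_one, tensorHom_fst,
      _root_.one_mul, inv_one, _root_.mul_one]
    congr 1
    rw [← Category.assoc (splitIso σ τ).inv, splitIso_inv_fst, Category.assoc,
      ← Category.assoc (Red.DSmap S _) (Red.DSmap S _), BorSpan613.DSmap_comp_DSmap, inl_comp',
      ← Category.assoc (splitIso σ τ).hom, splitIso_hom_inl, Category.assoc, Iso.hom_inv_id_assoc]
  · have h1 := hn X (t ≫ snd _ _)
    simp only [MonObj.mul_comp, GrpObj.inv_comp, Category.assoc, inH_snd, Category.comp_id, tensorHom_snd] at h1 ⊢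
    rw [h1]
    congr 1
    rw [← Category.assoc (splitIso σ τ).inv, splitIso_inv_snd, Category.assoc,
      ← Category.assoc (Red.DSmap S _) (Red.DSmap S _), BorSpan613.DSmap_comp_DSmap, inr_comp',
      ← BorSpan613.DSmap_comp_DSmap, Category.assoc, ← Category.assoc (splitIso σ τ).hom, splitIso_hom_inr,
      Category.assoc]
    rfl

/-- The dimension of the fibres of a product. -/
theorem dim_geomFibre_tensor [LocallyOfFiniteType G.hom] [LocallyOfFiniteType H.hom] (s : S) :
    topologicalKrullDim ↥(Red.geomFibre s (G ⊗ H)).left =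
      topologicalKrullDim ↥(Red.geomFibre s G).left + topologicalKrullDim ↥(Red.geomFibre s H).left := by
  have h1 : LocallyOfFiniteType (Red.geomFibre s G).hom :=
    inferInstanceAs (LocallyOfFiniteType (Limits.pullback.snd G.hom (Red.geomPt s)))
  have h2 : LocallyOfFiniteType (Red.geomFibre s H).hom :=
    inferInstanceAs (LocallyOfFiniteType (Limits.pullback.snd H.hom (Red.geomPt s)))
  rw [← K518.ProdIsog.dim_tensor]
  have h3 : IsIso (bcTensor (Red.geomPt s) G H).hom.left :=
    inferInstanceAs (IsIso ((Over.forget _).map (bcTensor (Red.geomPt s) G H).hom))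
  exact (Scheme.homeoOfIso (asIso (bcTensor (Red.geomPt s) G H).hom.left)).isHomeomorph.topologicalKrullDim_eq

variable (D : Red.SplitRed G) (E : Red.SplitRed H)

/-- The product of two split reductive groups. -/
noncomputable def prodSplit : Red.SplitRed (G ⊗ H) where
  T := D.T ⊗ E.T
  i := D.i ⊗ₘ E.i
  M := D.M × E.M
  idx := D.idx ⊕ E.idx
  P := prodPairing D.P E.P D.pairing_eq E.pairing_eq
  pairing_eq := rfl
  u := Sum.elim (fun a => D.u a ≫ inG G H) (fun b => E.u b ≫ inH G H)
  reductive := isReductive_tensor D.reductive E.reductive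
  maximalTorus := isMaximalTorus_tensor D.reductive E.reductive D.maximalTorus E.maximalTorus
    (isTorus_tensor D.split E.split)
  split := splitGrp D.split E.split
  rootHom := by
    have h1 := D.reductive.1
    have h2 := E.reductive.1
    rintro (a | b)
    · exact isRootHom_inG D.split E.split E.i (D.rootHom a)
    · exact isRootHom_inH D.split E.split D.i (E.rootHom b)
  refl := by
    rintro (a | b)
    · obtain ⟨n, hn⟩ := D.refl a
      refine ⟨n ≫ inG G H, fun X t => ?_⟩
      rw [reflection_inl]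
      exact refl_inG D.split E.split E.i _ n hn X t
    · obtain ⟨n, hn⟩ := E.refl b
      refine ⟨n ≫ inH G H, fun X t => ?_⟩
      rw [reflection_inr]
      exact refl_inH D.split E.split D.i _ n hn X t
  dim_fibre s := by
    have h1 := D.reductive.2.1
    have h2 := E.reductive.2.1
    rw [dim_geomFibre_tensor, D.dim_fibre, E.dim_fibre, Module.finrank_prod, Fintype.card_sum]
    push_cast
    ring

/-- **NODE P** (S16645): the product of two split reductive group schemes is split, with the direct sum of the root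
data. -/
theorem nodeP : Red.IsSplitOfType (prodPairing D.P E.P D.pairing_eq E.pairing_eq) (G ⊗ H) :=
  ⟨prodSplit D E, ⟨RootPairing.Equiv.id _⟩⟩

end Main

end K123.SplitProd
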